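import Cfsg.Agent.Mrg.Omega.NO3S.BetaFF.Act
import Cfsg.Agent.Mrg.Omega.NO3S.Act.PasCore
import Cfsg.Agent.Mrg.Omega.NO3S.Act.OneSym
import Cfsg.Agent.Mrg.Omega.NOThreeL.NF.Final
import Cfsg.Agent.PLocal.OffenderStep
import Cfsg.Agent.Mrg.Omega.NO3S.Level.ThmD
import Cfsg.Agent.Mrg.Omega.NOThreeL.Star
import Cfsg.Agent.Mrg.Omega.NO3S.Level.Cut

section


/-!
# GammaFF: the dichotomy and the generation lemmas for THEOREM PAS

`Act S P V F`, `L = V_P`, `W = W_F`, `ρ = [L, W]`.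

* `rp_of_concl`, `min_of_const` : the interface `RP` and "constant commutators ⟹ minimal offender" from the FF theorem;
* `dich` : `W^k ≤ C(L)` or `ρ^k = ρ^s`, `s ∈ S`;
* `zc_le` : `Z ≤ ⟨ρ^S⟩`; `irr`, `gen`, `cvq`, `key`.
-/

set_option autoImplicit false
set_option linter.unusedSectionVars false

namespace Cfsg.Agent.Omega.NO3S.Pas

open Subgroup Cfsg Cfsg.Agent.ZN Cfsg.Agent.Omega.MinPar
open Cfsg.Agent.Omega.NoFF.Basic (mem_conj conj_le_iff conj_conj)
open Cfsg.Agent.Omega.NOne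
open Cfsg.Agent.Omega.FFThm (ElemM OffM NoOverM ConclM NatKM SymKM StmtM)
open Cfsg.Agent.Omega.NOThreeL.NF (RP MinOffM pts)
open Cfsg.Agent.Omega.NOThreeL.NF.NatR (Const)
open Cfsg.Agent.Omega.NO3S.BetaFF (Act)
open Cfsg.Agent.Omega.NOThreeL.Low.Key (conj_eq_of_norm' norm_conj_mem c_eq_one')
open Cfsg.Agent.ZN.ChoiceBase (cj mem_cj)
open scoped Pointwise commutatorElement

universe u

set_option maxHeartbeats 400000

local notation "cm" => Cfsg.Agent.Omega.NOne.NearFF.c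

variable {G : Type u} [Group G] [Finite G] {S : Sylow 2 G}

/-- the interface `RP` from the conclusion of the FF theorem -/
theorem rp_of_concl (hG : IsCharacteristicTwoType G) {P : Subgroup G} (hP : IsParS (S : Subgroup G) P)
    (hcv : FrameFF.cv (S : Subgroup G) P = ⊥) (hc : ConclM (S : Subgroup G) P) : RP (S : Subgroup G) P := by
  rcases hc with ⟨F, _, _, _, k, hk, ⟨M⟩⟩ | ⟨k, m, hk, hm, ⟨M⟩⟩
  · exact NOThreeL.NF.rp_of_natKM hP.le hcv M
  · exact NOThreeL.NF.SymRP.rp_of_symKM hG hP.isLoc hcv (by omega) M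

/-- an offender with constant commutators is a minimal offender -/
theorem min_of_const (hG : IsCharacteristicTwoType G) {P : Subgroup G} (hP : IsParS (S : Subgroup G) P)
    (hcv : FrameFF.cv (S : Subgroup G) P = ⊥) (hc : ConclM (S : Subgroup G) P) {A : Subgroup G}
    (hAS : A ≤ (S : Subgroup G)) (hoff : OffM (zl (S : Subgroup G) P) A)
    (hA : Const (zl (S : Subgroup G) P) A) : MinOffM (zl (S : Subgroup G) P) (S : Subgroup G) A := by
  rcases hc with ⟨F, _, _, _, k, hk, ⟨M⟩⟩ | ⟨k, m, hk, hm, ⟨M⟩⟩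
  · rw [hcv] at M
    exact NOThreeL.NF.NatR.min_of_const (MinSimple.VModule.le_normalizer_zl _ _) hP.le M hAS hoff hA
  · rw [hcv] at M
    exact NOThreeL.NF.SymRP.min_of_const M (Half.amb_of_loc hG S hP.isLoc) (by omega) hAS hoff hA

/-- the root property of `I`: `[r, W] = [r', W]` (as sets) for `r, r' ∈ I - F` -/
def Root (V F I : Subgroup G) : Prop :=
  ∀ r ∈ I, r ∉ F → ∀ r' ∈ I, r' ∉ F → ∀ s ∈ Flat.WW V F, ∃ t ∈ Flat.WW V F, cm r' t = cm r s

theorem Root.conj {V F I : Subgroup G} (h : Root V F I) {m : G} (hm : m ∈ normalizer (V : Set G)) :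
    Root V (MulAut.conj m • F) (MulAut.conj m • I) := by
  intro r hr hrF r' hr' hrF' s hs
  rw [← Flat.WW_conj hm] at hs ⊢
  rw [mem_conj] at hr hrF hr' hrF' hs
  obtain ⟨t, ht, h1⟩ := h _ hr hrF _ hr' hrF' _ hs
  refine ⟨m * t * m⁻¹, ?_, ?_⟩
  · rw [mem_conj]
    have e : m⁻¹ * (m * t * m⁻¹) * m = t := by group
    rwa [e]
  · rw [NOne.NearFF.c, NOne.NearFF.c] at h1 ⊢
    have e1 : r' * (m * t * m⁻¹) * r'⁻¹ * (m * t * m⁻¹)⁻¹ =
        m * (m⁻¹ * r' * m * t * (m⁻¹ * r' * m)⁻¹ * t⁻¹) * m⁻¹ := by group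
    rw [e1, h1]
    group

theorem c_inv_eq (x a : G) : (cm x a)⁻¹ = a * x * a⁻¹ * x⁻¹ := by
  rw [NOne.NearFF.c]; group

/-- constant commutators of `L ≤ I` -/
theorem Root.const {V F I L : Subgroup G} (h : Root V F I) (hL : L ≤ I) : Const L (Flat.WW V F) := by
  intro x hx hxc y hy hyc a ha
  have hn : ∀ z : G, z ∉ centralizer (Flat.WW V F : Set G) → z ∉ F := fun z hz hzF => hz (by
    rw [mem_centralizer_iff]
    intro w hw
    exact (Flat.Hyp.F_comm hzF (Flat.Hyp.W_le_X hw)).symm)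
  obtain ⟨b, hb, h1⟩ := h x (hL hx) (hn x hxc) y (hL hy) (hn y hyc) a ha
  refine ⟨b, hb, ?_⟩
  rw [← c_inv_eq, ← c_inv_eq, h1]

/-- `L ≤ E'`, `L ≤ I'`, `W' ≤ S` moves `L`: `W'` is a minimal offender -/
theorem minOff_of_root {P V F I : Subgroup G} (hG : IsCharacteristicTwoType G) (hP : IsParS (S : Subgroup G) P)
    (hcv : FrameFF.cv (S : Subgroup G) P = ⊥) (hc : ConclM (S : Subgroup G) P) (hyp : Flat.Hyp V F)
    (hr : Root V F I) (hIE : I ≤ Flat.EE V F) (hLI : zl (S : Subgroup G) P ≤ I) (hW : Flat.WW V F ≤ (S : Subgroup G))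
    (hmov : ¬ Flat.WW V F ≤ centralizer (zl (S : Subgroup G) P : Set G)) :
    MinOffM (zl (S : Subgroup G) P) (S : Subgroup G) (Flat.WW V F) := by
  have hLE : zl (S : Subgroup G) P ≤ Flat.EE V F := hLI.trans hIE
  have hLV : zl (S : Subgroup G) P ≤ V := hLE.trans inf_le_left
  have h1 := hyp.elemM_W
  refine min_of_const hG hP hcv hc hW ?_ (hr.const hLI)
  exact
    { sq := fun a ha => centralizer_le hLV (h1.sq a ha)
      comm := fun a ha b hb => centralizer_le hLV (h1.comm a ha b hb)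
      ne := hmov
      le := FFThm.relIndex_le_iff.2 (hyp.off_of_le_all hLE) }

/-- `[L, W]` is the set of commutators `[r, W]` with any `r ∈ I - F` -/
theorem mem_comm_iff {P V F I : Subgroup G} (hrp : RP (S : Subgroup G) P) (hr : Root V F I)
    (hLI : zl (S : Subgroup G) P ≤ I) (hm : MinOffM (zl (S : Subgroup G) P) (S : Subgroup G) (Flat.WW V F))
    {r : G} (hrI : r ∈ I) (hrF : r ∉ F) {x : G} :
    x ∈ (⁅zl (S : Subgroup G) P, Flat.WW V F⁆ : Subgroup G) ↔ ∃ a ∈ Flat.WW V F, cm r a = x := by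
  obtain ⟨v, hv, hvc⟩ : ∃ v ∈ zl (S : Subgroup G) P, v ∉ centralizer (Flat.WW V F : Set G) := by
    by_contra hcon
    push Not at hcon
    exact hm.off.ne (le_centralizer_iff.1 hcon)
  have hvF : v ∉ F := fun hzF => hvc (by
    rw [mem_centralizer_iff]
    intro w hw
    exact (Flat.Hyp.F_comm hzF (Flat.Hyp.W_le_X hw)).symm)
  constructor
  · intro hx
    obtain ⟨a, ha, h1⟩ := hrp.surj _ hm v hv hvc _ (inv_mem hx)
    rw [← c_inv_eq, inv_inj] at h1
    obtain ⟨t, ht, h2⟩ := hr v (hLI hv) hvF r hrI hrF a ha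
    exact ⟨t, ht, h2.trans h1⟩
  · rintro ⟨a, ha, rfl⟩
    obtain ⟨t, ht, h2⟩ := hr r hrI hrF v (hLI hv) hvF a ha
    rw [← h2]
    exact commutator_mem_commutator hv ht

/-- `[L, W_F^k] = [L, W_F]^k` if both move `L` -/
theorem comm_conj_eq {P V F I : Subgroup G} (hrp : RP (S : Subgroup G) P) (hr : Root V F I)
    (hLI : zl (S : Subgroup G) P ≤ I) (hm : MinOffM (zl (S : Subgroup G) P) (S : Subgroup G) (Flat.WW V F))
    {k : G} (hk : k ∈ normalizer (V : Set G)) (hLI' : zl (S : Subgroup G) P ≤ MulAut.conj k • I)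
    (hm' : MinOffM (zl (S : Subgroup G) P) (S : Subgroup G) (Flat.WW V (MulAut.conj k • F))) :
    MulAut.conj k • ⁅zl (S : Subgroup G) P, Flat.WW V F⁆ =
      ⁅zl (S : Subgroup G) P, Flat.WW V (MulAut.conj k • F)⁆ := by
  -- `v ∈ L`, not centralised by `W`
  obtain ⟨v, hv, hvc⟩ : ∃ v ∈ zl (S : Subgroup G) P, v ∉ centralizer (Flat.WW V F : Set G) := by
    by_contra hcon
    push Not at hcon
    exact hm.off.ne (le_centralizer_iff.1 hcon)
  have hvF : v ∉ F := fun hzF => hvc (by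
    rw [mem_centralizer_iff]
    intro w hw
    exact (Flat.Hyp.F_comm hzF (Flat.Hyp.W_le_X hw)).symm)
  have hkv : k * v * k⁻¹ ∈ MulAut.conj k • I := by
    rw [mem_conj]
    have e : k⁻¹ * (k * v * k⁻¹) * k = v := by group
    rw [e]
    exact hLI hv
  have hkvF : k * v * k⁻¹ ∉ MulAut.conj k • F := by
    rw [mem_conj]
    have e : k⁻¹ * (k * v * k⁻¹) * k = v := by group
    rwa [e]
  ext x
  rw [mem_conj, mem_comm_iff hrp hr hLI hm (hLI hv) hvF, mem_comm_iff hrp (hr.conj hk) hLI' hm' hkv hkvF,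
    ← Flat.WW_conj hk]
  constructor
  · rintro ⟨a, ha, h1⟩
    refine ⟨k * a * k⁻¹, ?_, ?_⟩
    · rw [mem_conj]
      have e : k⁻¹ * (k * a * k⁻¹) * k = a := by group
      rwa [e]
    · have e : cm (k * v * k⁻¹) (k * a * k⁻¹) = k * cm v a * k⁻¹ := by
        rw [NOne.NearFF.c, NOne.NearFF.c]; group
      rw [e, h1]
      group
  · rintro ⟨a, ha, h1⟩
    rw [mem_conj] at ha
    refine ⟨k⁻¹ * a * k, ha, ?_⟩
    rw [← h1, NOne.NearFF.c, NOne.NearFF.c]
    group

/-- **The dichotomy**: `W^k` centralises `L`, or `ρ^k` is an `S`-conjugate of `ρ = [L, W]`. -/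
theorem dich {P P' V F I : Subgroup G} (h : Act S P V F) (hFF : StmtM.{u}) (PV' : P' ≤ normalizer (V : Set G))
    (WS' : ∀ g ∈ P', MulAut.conj g • Flat.WW V F ≤ (S : Subgroup G)) (hIE : I ≤ Flat.EE V F) (hr : Root V F I)
    (hLI : ∀ g ∈ P', MulAut.conj g • zl (S : Subgroup G) P ≤ I) {k : G} (hk : k ∈ P') :
    MulAut.conj k • Flat.WW V F ≤ centralizer (zl (S : Subgroup G) P : Set G) ∨
      ∃ s ∈ (S : Subgroup G), MulAut.conj k • ⁅zl (S : Subgroup G) P, Flat.WW V F⁆ =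
        MulAut.conj s • ⁅zl (S : Subgroup G) P, Flat.WW V F⁆ := by
  rw [or_iff_not_imp_left]
  intro hmov
  have hkV := PV' hk
  have hcon := (h.ff hFF).2
  have hrp := rp_of_concl h.char2 h.par h.cv hcon
  have hL1 : zl (S : Subgroup G) P ≤ I := by
    have := hLI 1 (one_mem _)
    rwa [map_one, one_smul] at this
  have hm := minOff_of_root h.char2 h.par h.cv hcon h.hyp hr hIE hL1 h.WS h.mov
  have hLI' : zl (S : Subgroup G) P ≤ MulAut.conj k • I := by
    have h1 := conj_le_iff (g := k) |>.2 (hLI _ (inv_mem hk))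
    rwa [conj_conj, mul_inv_cancel, map_one, one_smul] at h1
  have hIE' : MulAut.conj k • I ≤ Flat.EE V (MulAut.conj k • F) := by
    rw [← Flat.EE_conj hkV]
    exact conj_le_iff.2 hIE
  have hWS' : Flat.WW V (MulAut.conj k • F) ≤ (S : Subgroup G) := by
    rw [← Flat.WW_conj hkV]
    exact WS' k hk
  rw [Flat.WW_conj hkV] at hmov
  have hm' := minOff_of_root h.char2 h.par h.cv hcon (h.hyp.conj hkV) (hr.conj hkV) hIE' hLI' hWS' hmov
  obtain ⟨s, hs, h1⟩ := hrp.conj _ _ hm hm'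
  refine ⟨s, hs, ?_⟩
  rw [comm_conj_eq hrp hr hL1 hm hkV hLI' hm', h1]
  rfl

/-- `Z ≤ R₀ = ⟨ρ^S⟩` -/
theorem zc_le {P V F I : Subgroup G} (h : Act S P V F) (hFF : StmtM.{u}) (hIE : I ≤ Flat.EE V F)
    (hr : Root V F I) (hLI : zl (S : Subgroup G) P ≤ I) : zc (S : Subgroup G) ≤
      ⨆ s : (S : Subgroup G), MulAut.conj (s : G) • ⁅zl (S : Subgroup G) P, Flat.WW V F⁆ := by
  have hcon := (h.ff hFF).2
  have hrp := rp_of_concl h.char2 h.par h.cv hcon
  have hm := minOff_of_root h.char2 h.par h.cv hcon h.hyp hr hIE hLI h.WS h.mov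
  intro z hz
  by_cases hz1 : z = 1
  · rw [hz1]; exact one_mem _
  refine (sSup_le ?_ : sSup (pts (zl (S : Subgroup G) P) (S : Subgroup G) (Flat.WW V F)) ≤ _)
    (hrp.zfull _ hm z hz hz1).1
  rintro _ ⟨s, hs, rfl⟩
  exact le_iSup (fun s : (S : Subgroup G) => MulAut.conj (s : G) • ⁅zl (S : Subgroup G) P, Flat.WW V F⁆) ⟨s, hs⟩

theorem rho_le {P V F : Subgroup G} (h : Act S P V F) :
    ⁅zl (S : Subgroup G) P, Flat.WW V F⁆ ≤ zl (S : Subgroup G) P := by
  rw [commutator_le]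
  intro l hl w hw
  have h1 := norm_conj_mem (h.PL (h.WP hw)) (inv_mem hl)
  have e : ⁅l, w⁆ = l * (w * l⁻¹ * w⁻¹) := by rw [commutatorElement_def]; group
  rw [e]
  exact mul_mem hl h1

/-- `L` is the smallest nontrivial `P`-invariant subgroup of `V` -/
theorem irr {P V F : Subgroup G} (h : Act S P V F) (hFF : StmtM.{u}) (X : Subgroup G) (hXV : X ≤ V)
    (hPX : P ≤ normalizer (X : Set G)) (hX : X ≠ ⊥) : zl (S : Subgroup G) P ≤ X := by
  have hrp := rp_of_concl h.char2 h.par h.cv (h.ff hFF).2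
  have hX2 : IsPGroup 2 X := by
    intro x
    refine ⟨1, Subtype.ext ?_⟩
    rw [pow_one, pow_two]
    exact h.hyp.sq' (hXV x.2)
  have hSX : (S : Subgroup G) ≤ normalizer (X : Set G) := h.SP.trans hPX
  have hXS : X ≤ (S : Subgroup G) := by
    have : Fact (Nat.Prime 2) := ⟨Nat.prime_two⟩
    have h1 : IsPGroup 2 ((S : Subgroup G) ⊔ X : Subgroup G) := IsPGroup.to_sup_of_normal_right' S.isPGroup' hX2 hSX
    have h2 := S.is_maximal' h1 le_sup_left
    rw [← h2]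
    exact le_sup_right
  have : Fact (Nat.Prime 2) := ⟨Nat.prime_two⟩
  have h1 := PLocal.OffenderStep.inf_centralizer_ne_bot X (S : Subgroup G) hX2 S.isPGroup' hSX hX
  obtain ⟨c, hc1⟩ := Subgroup.ne_bot_iff_exists_ne_one.1 h1
  have hcS : (c : G) ∈ zc (S : Subgroup G) := by
    rw [ChoiceBase.mem_zc]
    exact ⟨hXS c.2.1, by rw [pow_two]; exact h.hyp.sq' (hXV c.2.1), fun y hy => mem_centralizer_iff.1 c.2.2 y hy⟩
  exact hrp.irr c hcS (fun h0 => hc1 (Subtype.ext h0)) X hPX c.2.1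

/-- `W` and `S` generate `P` -/
theorem gen {P V F : Subgroup G} (h : Act S P V F) (N : Subgroup G) (hN : N ≤ P)
    (hPN : P ≤ normalizer (N : Set G)) (hW : Flat.WW V F ≤ N) : P ≤ N ⊔ (S : Subgroup G) := by
  rcases h.par.toIsPar.sup_eq_or_inf_le S hN hPN with h1 | h1
  · exact h1.ge
  · exfalso
    apply h.mov
    intro w hw
    have h2 := h1 ⟨h.WS hw, hW hw⟩
    rw [← h.o2_eq] at h2
    exact h2.2

theorem cvq {P V F : Subgroup G} (h : Act S P V F) (hFF : StmtM.{u}) :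
    V ⊓ centralizer (((S : Subgroup G) ⊓ centralizer (zl (S : Subgroup G) P : Set G) : Subgroup G) : Set G) ≤
      zl (S : Subgroup G) P := by
  rw [h.o2_eq]
  exact (h.cent_VQ hFF).le

/-- `[I, W] ≤ L` -/
theorem key {P V F I : Subgroup G} (h : Act S P V F) (hr : Root V F I) (hLI : zl (S : Subgroup G) P ≤ I)
    {r s : G} (hrI : r ∈ I) (hs : s ∈ Flat.WW V F) : cm r s ∈ zl (S : Subgroup G) P := by
  by_cases hrF : r ∈ F
  · rw [c_eq_one' (Flat.Hyp.F_comm hrF (Flat.Hyp.W_le_X hs))]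
    exact one_mem _
  obtain ⟨v, hv, hvc⟩ : ∃ v ∈ zl (S : Subgroup G) P, v ∉ centralizer (Flat.WW V F : Set G) := by
    by_contra hcon
    push Not at hcon
    exact h.mov (le_centralizer_iff.1 hcon)
  have hvF : v ∉ F := fun hzF => hvc (by
    rw [mem_centralizer_iff]
    intro w hw
    exact (Flat.Hyp.F_comm hzF (Flat.Hyp.W_le_X hw)).symm)
  obtain ⟨t, ht, h1⟩ := hr r hrI hrF v (hLI hv) hvF s hs
  rw [← h1]
  have h2 := norm_conj_mem (h.PL (h.WP ht)) (inv_mem hv)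
  have e : cm v t = v * (t * v⁻¹ * t⁻¹) := by rw [NOne.NearFF.c]; group
  rw [e]
  exact mul_mem hv h2

/-- the dichotomy in the literal form of `Pre.pas` -/
theorem dich' {P P' V F B : Subgroup G} (h : Act S P V F) (hFF : StmtM.{u}) (PV' : P' ≤ normalizer (V : Set G))
    (WS' : ∀ g ∈ P', MulAut.conj g • Flat.WW V F ≤ (S : Subgroup G)) (hIE : V ⊓ B ≤ Flat.EE V F)
    (hr : Root V F (V ⊓ B)) (hLB : ∀ g ∈ P', MulAut.conj g • zl (S : Subgroup G) P ≤ B) :
    ∀ k ∈ P', MulAut.conj k • Flat.WW V F ≤ centralizer (zl (S : Subgroup G) P : Set G) ∨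
      ∃ s ∈ (S : Subgroup G), MulAut.conj k • ⁅zl (S : Subgroup G) P, Flat.WW V F⁆ =
        MulAut.conj s • ⁅zl (S : Subgroup G) P, Flat.WW V F⁆ := by
  intro k hk
  refine dich h hFF PV' WS' hIE hr (fun g hg => le_inf ?_ (hLB g hg)) hk
  have h1 := conj_le_iff (g := g) |>.2 h.LV
  rwa [conj_eq_of_norm' (PV' hg)] at h1

/-- the root property from KEY in the form `[r, W] = [E, b]` -/
theorem Root.of_key {V F B : Subgroup G}
    (hk : ∀ r ∈ V ⊓ B, r ∉ F → ∀ b ∈ B, b ∉ Flat.NN V F →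
      ∀ y, (∃ s ∈ Flat.WW V F, cm r s = y) ↔ ∃ e ∈ Flat.EE V F, cm e b = y)
    (hex : ∃ b ∈ B, b ∉ Flat.NN V F) : Root V F (V ⊓ B) := by
  obtain ⟨b, hb, hbN⟩ := hex
  intro r hr hrF r' hr' hrF' s hs
  obtain ⟨e, he, h1⟩ := (hk r hr hrF b hb hbN _).1 ⟨s, hs, rfl⟩
  exact (hk r' hr' hrF' b hb hbN _).2 ⟨e, he, h1⟩

end Cfsg.Agent.Omega.NO3S.Pas

end

section


/-!
# THEOREM VF (1)-(5) for a generating set of types

`M ∈ L(S)` is generated by a set `TT ⊆ P*(S)` of minimal parabolics in `M`, `V = zl S M` (Omega/NOThreeL/VF/One.lean,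
All.lean with `TT` = all members of `P*(S)` in `M`).

* `gallery` : a 2-subgroup `A` of `M` with `[V, A] ≠ 1` is `M`-conjugate to a subgroup of `S` which
  does not centralise `V_P` for some `P ∈ TT`;
* `one` : if `M` has an offender on `V`, then no subgroup of `M` over-offends on `V`, and there are `P ∈ TT` and an
  offender `A ≤ S` on `V` and on `V_P` with `C_A(V_P) = C_A(V)`; the conclusion of the FF theorem holds for `P`;
* `eq_zl` : if `C_{V_P}(O²(P)) = 1` for `P ∈ TT`, then `V = V_P` for some `P ∈ TT`;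
* `eq_zl_of_min` : `V = V_P` for every `P ∈ TT` such that a minimal offender `A ≤ S` on `V` moves `V_P`.
-/

set_option autoImplicit false
set_option linter.unusedSectionVars false

namespace Cfsg.Agent.Omega.NO3S.AllGood

open Subgroup Cfsg Cfsg.Agent.ZN Cfsg.Agent.ZN.ChoiceBase Cfsg.Agent.ZN.ChoiceSit Cfsg.Agent.Omega.MinPar
open Cfsg.Agent.Omega.FFThm
open Cfsg.Agent.Omega.NOThreeL.VF
open Cfsg.Agent.MinSimple.VModule (zl_le le_normalizer_zl zc_le_zl mem_zc le_o2 o2_isPGroup le_normalizer_o2)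

universe u

variable {G : Type u} [Group G] [Finite G]

/-- A 2-subgroup `A ≤ M` moving `V = ⟨Z^M⟩` moves some line `V_P`, `P ∈ P*(T)`, `A ≤ T ∈ Syl₂(M)`. -/
theorem gallery (hc : IsCharacteristicTwoType G) (S : Sylow 2 G) {M : Subgroup G}
    (hM : IsLoc (S : Subgroup G) M) {TT : Set (Subgroup G)} (hT : ∀ P ∈ TT, IsParS (S : Subgroup G) P ∧ P ≤ M)
    (hgen : M ≤ sSup TT)
    {A : Subgroup G} (hA : A ≤ M) (hA2 : IsPGroup 2 A)
    (hne : ¬ A ≤ centralizer (zl (S : Subgroup G) M : Set G)) :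
    ∃ m ∈ M, ∃ P ∈ TT, cj m A ≤ (S : Subgroup G) ∧
      ¬ cj m A ≤ centralizer (zl (S : Subgroup G) P : Set G) := by
  by_contra hcon
  push Not at hcon
  apply hne
  -- all conjugates of `A` lie in `S`
  let Y : Subgroup G :=
    { carrier := {g | ∀ m, cj m A ≤ (S : Subgroup G) ∧ m ∈ M ↔ cj (g * m) A ≤ (S : Subgroup G) ∧ g * m ∈ M}
      mul_mem' := by
        intro a b ha hb m
        have h1 := hb m
        have h2 := ha (b * m)
        rw [← mul_assoc] at h2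
        exact h1.trans h2
      one_mem' := by intro m; rw [one_mul]
      inv_mem' := by
        intro a ha m
        have h1 := ha (a⁻¹ * m)
        have e : a * (a⁻¹ * m) = m := by group
        rw [e] at h1
        exact h1.symm }
  have key : ∀ P ∈ TT, ∀ p ∈ P, ∀ m, cj m A ≤ (S : Subgroup G) → m ∈ M →
      cj (p * m) A ≤ (S : Subgroup G) ∧ p * m ∈ M := by
    intro P hPT p hp m hm hmM
    obtain ⟨hP, hPM⟩ := hT P hPT
    refine ⟨?_, mul_mem (hPM hp) hmM⟩
    have h1 := hcon m hmM P hPT hm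
    have h2 : cj m A ≤ o2 P := by
      rw [← hP.inf_centralizer S hc]
      exact le_inf hm h1
    have h3 := h2.trans (FrameNOFF.o2_le_conj S hP.toIsPar (P.inv_mem hp))
    have h4 := cj_mono p h3
    rw [cj_cj] at h4
    refine h4.trans ?_
    intro x hx
    rw [mem_cj] at hx
    change p⁻¹ * x * p ∈ cj p⁻¹ (S : Subgroup G) at hx
    rw [mem_cj] at hx
    have e : p⁻¹⁻¹ * (p⁻¹ * x * p) * p⁻¹ = x := by group
    rwa [e] at hx
  have hY : ∀ P ∈ TT, P ≤ Y := by
    intro P hPT p hp m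
    constructor
    · rintro ⟨h1, h2⟩
      exact key P hPT p hp m h1 h2
    · rintro ⟨h1, h2⟩
      have h3 := key P hPT p⁻¹ (inv_mem hp) (p * m) h1 h2
      have e : p⁻¹ * (p * m) = m := by group
      rwa [e] at h3
  have hMY : M ≤ Y := hgen.trans (sSup_le fun P hP => hY P hP)
  obtain ⟨m₀, hm₀, hA₀⟩ := FFThm.exists_conj_le S hM.le hA2 hA
  have hall : ∀ m ∈ M, cj m⁻¹ A ≤ (S : Subgroup G) := by
    intro m hm
    have h1 := (hMY (mul_mem (inv_mem hm) (inv_mem hm₀)) : _ ∈ Y) m₀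
    have h2 := (h1.1 ⟨hA₀, hm₀⟩).1
    have e : m⁻¹ * m₀⁻¹ * m₀ = m⁻¹ := by group
    rwa [e] at h2
  have h1 := le_o2_of_cj S hM.le hall
  have h2 := hM.zl_le S hc
  intro a ha
  rw [mem_centralizer_iff]
  intro v hv
  exact ((Cfsg.Agent.MinSimple.VModule.mem_zc.1 (h2 hv)).2.1 a (h1 ha)).symm

/-! ### (1) -/

/-- **(1)** -/
theorem one (hFF : StmtM.{u}) (hc : IsCharacteristicTwoType G) (S : Sylow 2 G) {M : Subgroup G}
    (hM : IsLoc (S : Subgroup G) M) {TT : Set (Subgroup G)} (hT : ∀ P ∈ TT, IsParS (S : Subgroup G) P ∧ P ≤ M)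
    (hgen : M ≤ sSup TT)
    (hoff : ∃ A ≤ M, OffM (zl (S : Subgroup G) M) A) :
    NoOverM (zl (S : Subgroup G) M) M ∧ ∃ P ∈ TT, ∃ A ≤ (S : Subgroup G),
      OffM (zl (S : Subgroup G) M) A ∧ OffM (zl (S : Subgroup G) P) A ∧
      A ⊓ centralizer (zl (S : Subgroup G) P : Set G) ≤ centralizer (zl (S : Subgroup G) M : Set G) ∧
      ConclM (S : Subgroup G) P := by
  classical
  set V : Subgroup G := zl (S : Subgroup G) M with hVd
  have hMV : M ≤ normalizer (V : Set G) := Cfsg.Agent.MinSimple.VModule.le_normalizer_zl _ _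
  -- the class
  let 𝒞 : Set (Subgroup G) := {B | B ≤ M ∧ IsPGroup 2 B ∧ ElemM V B ∧ ¬ B ≤ centralizer (V : Set G)}
  -- replacement
  have hrep : ∀ A ≤ M, ElemM V A → ¬ A ≤ centralizer (V : Set G) → ∃ B ∈ 𝒞, fM V B = fM V A := by
    intro A hA hE hne
    obtain ⟨B, hB, hB2, h⟩ := exists_two (hA.trans hMV) hE
    refine ⟨B, ⟨hB.trans hA, hB2, elemM_mono hE hB, fun h1 => hne fun a ha => ?_⟩, fM_congr hB h⟩
    obtain ⟨b, hb, hab⟩ := h a ha
    have h2 := mul_mem (h1 hb) hab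
    have e : b * (b⁻¹ * a) = a := by group
    rwa [e] at h2
  obtain ⟨A₀, hA₀M, hA₀⟩ := hoff
  obtain ⟨B₀, hB₀, hfB₀⟩ := hrep A₀ hA₀M hA₀.toElemM hA₀.ne
  have hVf₀ : Nat.card V ≤ fM V B₀ := by
    rw [hfB₀]
    exact le_fM_iff.2 hA₀.le
  obtain ⟨B₁, hB₁, hmax⟩ := Set.exists_max_image 𝒞 (fM V) (Set.toFinite _) ⟨B₀, hB₀⟩
  obtain ⟨B, ⟨hB, hBf⟩, hmin⟩ := Set.exists_min_image {B | B ∈ 𝒞 ∧ fM V B = fM V B₁}
    (fun B => (centralizer (V : Set G)).relIndex B) (Set.toFinite _) ⟨B₁, hB₁, rfl⟩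
  -- move it into `S`
  obtain ⟨m, hm, P, hPT, hmS, hmP⟩ := gallery hc S hM hT hgen hB.1 hB.2.1 hB.2.2.2
  obtain ⟨hP, hPM⟩ := hT P hPT
  have hmV := hMV hm
  have hcj := fM_cj (A := B) hmV
  set A : Subgroup G := cj m B with hAd
  have hAM : A ≤ M := hmS.trans hM.le
  have hAE : ElemM V A := elemM_cj hmV hB.2.2.1
  have hWV : zl (S : Subgroup G) P ≤ V := Cfsg.Agent.MinSimple.VModule.zl_le (Cfsg.Agent.MinSimple.VModule.zc_le_zl _ _) (hPM.trans hMV)
  set W : Subgroup G := zl (S : Subgroup G) P with hWd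
  have hCVW : centralizer (V : Set G) ≤ centralizer (W : Set G) := centralizer_le hWV
  have hAne : ¬ A ≤ centralizer (V : Set G) := fun h => hmP (h.trans hCVW)
  have hAW : ElemM W A := ⟨fun a ha => hCVW (hAE.sq a ha), fun a ha b hb => hCVW (hAE.comm a ha b hb)⟩
  have hfA : fM V A = fM V B₁ := hcj.1.trans hBf
  have hPFF : (∃ A ≤ P, OffM W A) → NoOverM W P ∧ ConclM (S : Subgroup G) P := fun h =>
    hFF G (S : Subgroup G) P (syl_of_sylow S hP.le) hP.toIsMinPar (hP.isLoc.char2 S hc) h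
  -- no over-offender on `W`
  have hno : Nat.card A * Nat.card ↥(W ⊓ centralizer (A : Set G)) ≤
      Nat.card W * Nat.card ↥(A ⊓ centralizer (W : Set G)) := by
    by_contra hcon
    have hoffW : OffM W A := ⟨hAW, hmP, (not_le.1 hcon).le⟩
    exact hcon ((hPFF ⟨A, hmS.trans hP.le, hoffW⟩).1 A (hmS.trans hP.le) hAW)
  have hle := fM_le hWV hno
  set A₁ : Subgroup G := A ⊓ centralizer (W : Set G) with hA₁
  have hA₁V : A₁ ≤ centralizer (V : Set G) := by
    by_contra hcon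
    have hmem : A₁ ∈ 𝒞 := ⟨inf_le_left.trans hAM, (S.isPGroup'.to_le hmS).to_le inf_le_left,
      elemM_mono hAE inf_le_left, hcon⟩
    have h1 := hmax A₁ hmem
    have h2 : fM V A₁ = fM V B₁ := le_antisymm h1 (hfA ▸ hle)
    have h3 := hmin A₁ ⟨hmem, h2⟩
    rw [← hcj.2] at h3
    have e4 : A₁ ⊓ centralizer (V : Set G) = A ⊓ centralizer (V : Set G) := by
      rw [hA₁, inf_assoc, inf_eq_right.2 hCVW]
    have h4 : Nat.card A ≤ Nat.card A₁ := by
      rw [card_eq_rel V A, card_eq_rel V A₁, e4]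
      exact Nat.mul_le_mul_right _ h3
    have h5 : A₁ = A := Subgroup.eq_of_le_of_card_ge inf_le_left h4
    exact hmP (inf_eq_left.1 h5)
  have hfA₁ : fM V A₁ = Nat.card V := fM_of_le hA₁V
  have hfB₁ : fM V B₁ = Nat.card V :=
    le_antisymm (hfA ▸ hfA₁ ▸ hle) (hVf₀.trans (hmax B₀ hB₀))
  have hNO : NoOverM V M := by
    intro D hD hE
    rw [← fM_le_iff]
    by_cases hne : D ≤ centralizer (V : Set G)
    · exact (fM_of_le hne).le
    · obtain ⟨B', hB', h1⟩ := hrep D hD hE hne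
      rw [← h1, ← hfB₁]
      exact hmax B' hB'
  have hfAV : fM V A = Nat.card V := hfA.trans hfB₁
  have hoffV : OffM V A := ⟨hAE, hAne, le_fM_iff.1 hfAV.ge⟩
  have hoffW : OffM W A := by
    refine ⟨hAW, hmP, ?_⟩
    have h3 := card_mul_card_le hWV (inf_le_left : V ⊓ centralizer (A : Set G) ≤ V)
    have e3 : W ⊓ (V ⊓ centralizer (A : Set G)) = W ⊓ centralizer (A : Set G) := by
      rw [← inf_assoc, inf_eq_left.2 hWV]
    rw [e3] at h3
    have h4 := fM_mul V A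
    rw [hfAV] at h4
    have e4 : A₁ = A ⊓ centralizer (V : Set G) := by
      apply le_antisymm
      · exact le_inf inf_le_left hA₁V
      · exact inf_le_inf le_rfl hCVW
    rw [← e4] at h4
    have p1 : 0 < Nat.card V := Nat.card_pos
    have h5 : Nat.card V * (Nat.card W * Nat.card A₁) ≤
        Nat.card V * (Nat.card A * Nat.card ↥(W ⊓ centralizer (A : Set G))) := by
      calc Nat.card V * (Nat.card W * Nat.card A₁) = Nat.card W * (Nat.card V * Nat.card A₁) := by ring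
        _ = Nat.card W * (Nat.card A * Nat.card ↥(V ⊓ centralizer (A : Set G))) := by rw [h4]
        _ = Nat.card A * (Nat.card W * Nat.card ↥(V ⊓ centralizer (A : Set G))) := by ring
        _ ≤ Nat.card A * (Nat.card V * Nat.card ↥(W ⊓ centralizer (A : Set G))) := Nat.mul_le_mul_left _ h3
        _ = _ := by ring
    exact Nat.le_of_mul_le_mul_left h5 p1
  exact ⟨hNO, P, hPT, A, hmS, hoffV, hoffW, hA₁V, (hPFF ⟨A, hmS.trans hP.le, hoffW⟩).2⟩

/-- the common end -/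
theorem le_zl (hFF : StmtM.{u}) (hc : IsCharacteristicTwoType G) (S : Sylow 2 G) {M : Subgroup G}
    (hM : IsLoc (S : Subgroup G) M) {P : Subgroup G} (hP : IsParS (S : Subgroup G) P) (hPM : P ≤ M)
    (hcv : FrameFF.cv (S : Subgroup G) P = ⊥) (no : NoOverM (zl (S : Subgroup G) M) M) {A : Subgroup G}
    (hA : A ≤ (S : Subgroup G)) (offW : OffM (zl (S : Subgroup G) M) A) (offV : OffM (zl (S : Subgroup G) P) A)
    (hAC : A ⊓ centralizer (zl (S : Subgroup G) P : Set G) ≤ centralizer (zl (S : Subgroup G) M : Set G)) :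
    zl (S : Subgroup G) M = zl (S : Subgroup G) P := by
  have hSP : (S : Subgroup G) ≤ P := hP.le
  obtain ⟨hno, hcon⟩ := hFF G S P (FFThm.syl_of_sylow S hSP) hP.toIsMinPar (hP.isLoc.char2 S hc)
    ⟨A, hA.trans hSP, offV⟩
  have hVW : zl (S : Subgroup G) P ≤ zl (S : Subgroup G) M := by
    unfold zl
    exact iSup_le fun p => le_iSup (fun g : M => (zc (S : Subgroup G)).map (MulAut.conj (g : G)).toMonoidHom)
      ⟨p, hPM p.2⟩
  have hE := FFThm.elem_zl hc S hM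
  have s : Cfsg.Agent.Omega.NOThreeL.VF.Q.Sit M (zl (S : Subgroup G) M) (zl (S : Subgroup G) P) :=
    { ab := fun x hx y hy => congrArg Subtype.val (hE.1.is_comm.comm ⟨x, hx⟩ ⟨y, hy⟩)
      sq := fun x hx => by rw [← pow_two]; exact hE.2 x hx
      VW := hVW
      nW := Cfsg.Agent.MinSimple.VModule.le_normalizer_zl _ _ }
  have hWS : zl (S : Subgroup G) M ≤ (S : Subgroup G) :=
    ((hM.zl_le S hc).trans (Cfsg.Agent.MinSimple.VModule.zc_le _)).trans (hM.o2_le S)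
  refine le_antisymm ?_ hVW
  rcases hcon with ⟨F, _, _, _, k, hk, ⟨N⟩⟩ | ⟨k, m, hk, hm, ⟨N⟩⟩
  · rw [hcv] at N
    exact Q.nat_le N s S.isPGroup' hSP hPM hWS no hno hA offW offV.ne hAC
  · rw [hcv] at N
    exact Q.S.sym_le N (by omega) s S.isPGroup' hSP hPM hWS no hno hA offW offV.ne hAC

/-- **THEOREM VF, (1)-(5)**, for `TT`. -/
theorem eq_zl (hFF : StmtM.{u}) (hc : IsCharacteristicTwoType G) (S : Sylow 2 G) {M : Subgroup G}
    (hM : IsLoc (S : Subgroup G) M) {TT : Set (Subgroup G)} (hT : ∀ P ∈ TT, IsParS (S : Subgroup G) P ∧ P ≤ M)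
    (hgen : M ≤ sSup TT) (hcv : ∀ P ∈ TT, FrameFF.cv (S : Subgroup G) P = ⊥)
    (hoff : ∃ A ≤ M, OffM (zl (S : Subgroup G) M) A) :
    NoOverM (zl (S : Subgroup G) M) M ∧ ∃ P ∈ TT, zl (S : Subgroup G) M = zl (S : Subgroup G) P ∧
      ∃ A ≤ (S : Subgroup G), OffM (zl (S : Subgroup G) P) A := by
  obtain ⟨no, P, hPT, A, hA, offW, offV, hAC, -⟩ := one hFF hc S hM hT hgen hoff
  exact ⟨no, P, hPT, le_zl hFF hc S hM (hT P hPT).1 (hT P hPT).2 (hcv P hPT) no hA offW offV hAC, A, hA, offV⟩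

/-- a minimal offender `A ≤ S` on `V = zl S M` which moves `V_P`: then `V = V_P` (`no`: nothing over-offends on
`V`; `noP`: `A` does not over-offend on `V_P`). -/
theorem eq_zl_of_min (hFF : StmtM.{u}) (hc : IsCharacteristicTwoType G) (S : Sylow 2 G) {M : Subgroup G}
    (hM : IsLoc (S : Subgroup G) M) {P : Subgroup G} (hP : IsParS (S : Subgroup G) P) (hPM : P ≤ M)
    (hcv : FrameFF.cv (S : Subgroup G) P = ⊥) (no : NoOverM (zl (S : Subgroup G) M) M)
    (noP : NoOverM (zl (S : Subgroup G) P) P) {A : Subgroup G}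
    (hmin : NOThreeL.NF.MinOffM (zl (S : Subgroup G) M) (S : Subgroup G) A)
    (hne : ¬ A ≤ centralizer (zl (S : Subgroup G) P : Set G)) :
    zl (S : Subgroup G) M = zl (S : Subgroup G) P := by
  set V : Subgroup G := zl (S : Subgroup G) M with hVd
  set W : Subgroup G := zl (S : Subgroup G) P with hWd
  have hAS := hmin.le
  have hWV : W ≤ V := by
    rw [hWd, hVd]
    unfold zl
    exact iSup_le fun p => le_iSup (fun g : M => (zc (S : Subgroup G)).map (MulAut.conj (g : G)).toMonoidHom)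
      ⟨p, hPM p.2⟩
  have hCVW : centralizer (V : Set G) ≤ centralizer (W : Set G) := centralizer_le hWV
  have hAE := hmin.off.toElemM
  have hAW : ElemM W A := ⟨fun a ha => hCVW (hAE.sq a ha), fun a ha b hb => hCVW (hAE.comm a ha b hb)⟩
  have hno := noP A (hAS.trans hP.le) hAW
  have hle := fM_le hWV hno
  have hfA : Nat.card V ≤ fM V A := le_fM_iff.2 hmin.off.le
  set A₁ : Subgroup G := A ⊓ centralizer (W : Set G) with hA₁
  have hA₁E : ElemM V A₁ := elemM_mono hAE inf_le_left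
  have hA₁V : A₁ ≤ centralizer (V : Set G) := by
    by_contra hcon
    have h1 : OffM V A₁ := ⟨hA₁E, hcon, le_fM_iff.1 (hfA.trans hle)⟩
    have h3 := hmin.min A₁ inf_le_left h1
    have e4 : A₁ ⊓ centralizer (V : Set G) = A ⊓ centralizer (V : Set G) := by
      rw [hA₁, inf_assoc, inf_eq_right.2 hCVW]
    have h4 : Nat.card A ≤ Nat.card A₁ := by
      rw [card_eq_rel V A, card_eq_rel V A₁, e4]
      exact Nat.mul_le_mul_right _ h3
    have h5 : A₁ = A := Subgroup.eq_of_le_of_card_ge inf_le_left h4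
    exact hne (inf_eq_left.1 h5)
  have hfA₁ : fM V A₁ = Nat.card V := fM_of_le hA₁V
  have hfAV : fM V A = Nat.card V := le_antisymm (hle.trans hfA₁.le) hfA
  have hoffW : OffM W A := by
    refine ⟨hAW, hne, ?_⟩
    have h3 := card_mul_card_le hWV (inf_le_left : V ⊓ centralizer (A : Set G) ≤ V)
    have e3 : W ⊓ (V ⊓ centralizer (A : Set G)) = W ⊓ centralizer (A : Set G) := by
      rw [← inf_assoc, inf_eq_left.2 hWV]
    rw [e3] at h3
    have h4 := fM_mul V A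
    rw [hfAV] at h4
    have e4 : A₁ = A ⊓ centralizer (V : Set G) := by
      apply le_antisymm
      · exact le_inf inf_le_left hA₁V
      · exact inf_le_inf le_rfl hCVW
    rw [← e4] at h4
    have p1 : 0 < Nat.card V := Nat.card_pos
    have h5 : Nat.card V * (Nat.card W * Nat.card A₁) ≤
        Nat.card V * (Nat.card A * Nat.card ↥(W ⊓ centralizer (A : Set G))) := by
      calc Nat.card V * (Nat.card W * Nat.card A₁) = Nat.card W * (Nat.card V * Nat.card A₁) := by ring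
        _ = Nat.card W * (Nat.card A * Nat.card ↥(V ⊓ centralizer (A : Set G))) := by rw [h4]
        _ = Nat.card A * (Nat.card W * Nat.card ↥(V ⊓ centralizer (A : Set G))) := by ring
        _ ≤ Nat.card A * (Nat.card V * Nat.card ↥(W ⊓ centralizer (A : Set G))) := Nat.mul_le_mul_left _ h3
        _ = _ := by ring
    exact Nat.le_of_mul_le_mul_left h5 p1
  exact le_zl hFF hc S hM hP hPM hcv no hAS hmin.off hoffW hA₁V

end Cfsg.Agent.Omega.NO3S.AllGood

end

section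


/-!
# GammaFF, THEOREM ACT (#20049 helper800, form #21206 helper365): the all-good case

`(S, P₀)`, `(S, P)` active for `W = WW V F ≤ S`, `C_Z(P₀) = C_Z(P) = 1` (`BetaFF.Act`), `M = ⟨P₀, P⟩`.

* `isLoc_sup` : `M` is local;
* `NoOverM` and `eq_all` : `zl S M ≤ E` ⟹ nothing in `M` over-offends on `zl S M`, and
  `zl S P₀ = zl S M = zl S P`;
* `eq_of_good` : `zl S M ≤ E` ⟹ `zl S P = zl S P₀`;
* `zl_le_of` : `zl S M ≤ E` if `V_R^g ≤ E` for all `g ∈ M`, `R ∈ {P₀, P}`.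
-/

set_option autoImplicit false
set_option linter.unusedSectionVars false

namespace Cfsg.Agent.Omega.NO3S.AllGood

open Subgroup Cfsg Cfsg.Agent.ZN Cfsg.Agent.ZN.ChoiceBase Cfsg.Agent.Omega.MinPar
open Cfsg.Agent.Omega.FFThm (ElemM OffM NoOverM ConclM StmtM)
open Cfsg.Agent.Omega.NOThreeL.NF (MinOffM)
open Cfsg.Agent.Omega.NOne
open Cfsg.Agent.Omega.NO3S.BetaFF (Act)
open scoped Pointwise

universe u

variable {G : Type u} [Group G] [Finite G] {S : Sylow 2 G} {P₀ P V F : Subgroup G}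

theorem isLoc_sup (a₀ : Act S P₀ V F) (a : Act S P V F) : IsLoc (S : Subgroup G) (P₀ ⊔ P) := by
  refine ⟨a₀.SP.trans le_sup_left, fun h0 => ?_⟩
  have hn : P₀ ⊔ P ≤ normalizer (V : Set G) := sup_le a₀.PV a.PV
  set K : Subgroup G := V ⊓ (P₀ ⊔ P) with hK
  have hKn : P₀ ⊔ P ≤ normalizer (K : Set G) := by
    intro x hx
    rw [mem_normalizer_iff]
    intro y
    rw [hK, mem_inf, mem_inf]
    refine and_congr ((mem_normalizer_iff.1 (hn hx)) y) ⟨fun hy => mul_mem (mul_mem hx hy) (inv_mem hx), fun hy => ?_⟩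
    have h1 := mul_mem (mul_mem (inv_mem hx) hy) hx
    have e : x⁻¹ * (x * y * x⁻¹) * x = y := by group
    rwa [e] at h1
  have h1 : K ≤ o2 (P₀ ⊔ P) := Cfsg.Agent.MinSimple.VModule.le_o2 inf_le_right
    (a₀.hyp.V_isPGroup.to_le inf_le_left) hKn
  have h2 : zl (S : Subgroup G) P₀ ≤ K := by
    refine le_inf a₀.LV ?_
    exact ((a₀.par.isLoc.zl_le S a₀.char2).trans (Cfsg.Agent.MinSimple.VModule.zc_le _)).trans
      ((a₀.par.isLoc.o2_le S).trans (a₀.SP.trans le_sup_left))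
  apply a₀.mov
  have h3 : zl (S : Subgroup G) P₀ = ⊥ := le_bot_iff.1 (h0 ▸ h2.trans h1)
  rw [h3]
  intro x _
  rw [mem_centralizer_iff]
  intro y hy
  rw [mem_bot.1 hy, one_mul, mul_one]

/-- `W` offends on every nontrivial `Y ≤ E` which it moves -/
theorem offM_of_le (a₀ : Act S P₀ V F) {Y : Subgroup G} (hY : Y ≤ Flat.EE V F)
    (hne : ¬ Flat.WW V F ≤ centralizer (Y : Set G)) : OffM Y (Flat.WW V F) where
  sq := fun a ha => centralizer_le (hY.trans inf_le_left) (a₀.hyp.elemM_W.sq a ha)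
  comm := fun a ha b hb => centralizer_le (hY.trans inf_le_left) (a₀.hyp.elemM_W.comm a ha b hb)
  ne := hne
  le := FFThm.relIndex_le_iff.2 (a₀.hyp.off_of_le_all hY)

theorem zl_mono {M : Subgroup G} (h : P ≤ M) : zl (S : Subgroup G) P ≤ zl (S : Subgroup G) M := by
  unfold zl
  exact iSup_le fun p => le_iSup (fun g : M => (zc (S : Subgroup G)).map (MulAut.conj (g : G)).toMonoidHom)
    ⟨p, h p.2⟩

/-- one half -/
theorem eq_half (hFF : StmtM.{u}) (a₀ : Act S P₀ V F) (a : Act S P V F) {M : Subgroup G}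
    (hM : IsLoc (S : Subgroup G) M) (hPM : P ≤ M) (no : NoOverM (zl (S : Subgroup G) M) M)
    (h0 : zl (S : Subgroup G) M = zl (S : Subgroup G) P₀) :
    zl (S : Subgroup G) M = zl (S : Subgroup G) P := by
  have hXV : zl (S : Subgroup G) P ≤ zl (S : Subgroup G) P₀ := by
    rw [← h0]
    exact zl_mono hPM
  obtain ⟨B, hB, hmin, hne⟩ := exists_min_mov hFF a₀.char2 S a₀.par a₀.cv a₀.WS a₀.offM hXV a.mov
  rw [← h0] at hmin
  exact eq_zl_of_min hFF a₀.char2 S hM a.par hPM a.cv no (a.ff hFF).1 hmin hne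

/-- **The all-good case.** -/
theorem eq_all (hFF : StmtM.{u}) (a₀ : Act S P₀ V F) (a : Act S P V F)
    (hE : zl (S : Subgroup G) (P₀ ⊔ P) ≤ Flat.EE V F) :
    NoOverM (zl (S : Subgroup G) (P₀ ⊔ P)) (P₀ ⊔ P) ∧
      zl (S : Subgroup G) (P₀ ⊔ P) = zl (S : Subgroup G) P₀ ∧
      zl (S : Subgroup G) (P₀ ⊔ P) = zl (S : Subgroup G) P := by
  set M : Subgroup G := P₀ ⊔ P with hMd
  have hM := isLoc_sup a₀ a
  have hP₀M : P₀ ≤ M := le_sup_left
  have hPM : P ≤ M := le_sup_right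
  have hmov : ¬ Flat.WW V F ≤ centralizer (zl (S : Subgroup G) M : Set G) := fun h1 =>
    a₀.mov (h1.trans (centralizer_le (zl_mono hP₀M)))
  obtain ⟨no, P', hP', he, -⟩ := eq_zl hFF a₀.char2 S hM (TT := {P₀, P})
    (by
      rintro R (rfl | rfl)
      · exact ⟨a₀.par, hP₀M⟩
      · exact ⟨a.par, hPM⟩)
    (sup_le (le_sSup (Or.inl rfl)) (le_sSup (Or.inr rfl)))
    (by
      rintro R (rfl | rfl)
      · exact a₀.cv
      · exact a.cv)
    ⟨_, a₀.WP.trans hP₀M, offM_of_le a₀ hE hmov⟩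
  refine ⟨no, ?_⟩
  rcases hP' with rfl | rfl
  · exact ⟨he, eq_half hFF a₀ a hM hPM no he⟩
  · exact ⟨eq_half hFF a a₀ hM hP₀M no he, he⟩

theorem eq_of_good (hFF : StmtM.{u}) (a₀ : Act S P₀ V F) (a : Act S P V F)
    (hE : zl (S : Subgroup G) (P₀ ⊔ P) ≤ Flat.EE V F) : zl (S : Subgroup G) P = zl (S : Subgroup G) P₀ := by
  obtain ⟨-, h1, h2⟩ := eq_all hFF a₀ a hE
  exact h2.symm.trans h1

/-- `zl S M ≤ E` if all lines of `M` are in `E` -/
theorem zl_le_of {M E : Subgroup G} {R : Subgroup G}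
    (hE : ∀ g ∈ M, MulAut.conj g • zl (S : Subgroup G) R ≤ E) : zl (S : Subgroup G) M ≤ E := by
  unfold zl
  refine iSup_le fun g => ?_
  have h1 : zc (S : Subgroup G) ≤ zl (S : Subgroup G) R := Cfsg.Agent.MinSimple.VModule.zc_le_zl _ _
  refine le_trans ?_ (hE g g.2)
  rintro _ ⟨x, hx, rfl⟩
  exact ⟨x, h1 hx, rfl⟩

end Cfsg.Agent.Omega.NO3S.AllGood

end

section


/-!
# GammaFF (S5): the frame (helper75 #22081)

`V = X₀`, `M = M₀`, `L = V_P`.  An element `m ∈ M` stands for the chamber `S^m = conj m • S`, its line is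
`L^m = conj m • L`.  `F` is a maximal bad subgroup of `V` (`Flat.Hyp V F`), `X = C_G(F)`, `E = EE V F`, `W = NOne.Flat.WW V F`,
`N = NN V F`.

* `Fv S P V M F` : the frame; `Fv.conj`;
* `BL S P F Δ` : `⟨L^(x m) : m ∈ Δ, x ∈ X⟩ F` for a set `Δ` of chambers;
* `DW` : the chambers `≥ W`; `BB = BL DW`; `B1 = C_W(V ∩ B)`; `DB` : the chambers `≥ B1` with good line;
  `BBB = BL DB`.
-/

set_option autoImplicit false
set_option linter.unusedSectionVars false

namespace Cfsg.Agent.Omega.NO3S.SFive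

/- `WW` is `NOne.Flat.WW` in this namespace (and not `NO3S.WW`). -/
export Cfsg.Agent.Omega.NOne.Flat (WW)

open Subgroup Cfsg Cfsg.Agent.ZN Cfsg.Agent.Omega.MinPar Cfsg.Agent.Omega.Frame Cfsg.Agent.Omega.FrameNOFF
open Cfsg.Agent.Omega.NOne.Flat (EE NN BadX)
open Cfsg.Agent.Omega.FFThm (ElemM OffM NoOverM ConclM)
open Cfsg.Agent.Omega.NOThreeL.Low.Key (BH)
open scoped Pointwise

universe u

variable {G : Type u} [Group G] [Finite G]

/-- **The frame of (S5)** for a maximal bad subgroup `F` of `V`; `L = V_P`. -/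
structure Fv (S : Sylow 2 G) (P V M F : Subgroup G) : Prop extends Cfsg.Agent.Omega.NOne.Flat.Hyp V F where
  ct : IsCharacteristicTwoType G
  par : IsParS (S : Subgroup G) P
  cvb : FrameFF.cv (S : Subgroup G) P = ⊥
  concl : ConclM (S : Subgroup G) P
  noOver : NoOverM (zl (S : Subgroup G) P) P
  LV : zl (S : Subgroup G) P ≤ V
  VS : V ≤ (S : Subgroup G)
  /-- `L` is a proper subgroup of `V` -/
  ne : ¬ V ≤ zl (S : Subgroup G) P
  /-- (T6) -/
  t6 : V ⊓ centralizer (o2 P : Set G) ≤ zl (S : Subgroup G) P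
  PM : P ≤ M
  MV : M ≤ normalizer (V : Set G)
  RM : o2 (centralizer (F : Set G)) ≤ M
  /-- the lines of the chambers `≥ W` are good -/
  good : ∀ m ∈ M, NOne.Flat.WW V F ≤ MulAut.conj m • (S : Subgroup G) → MulAut.conj m • zl (S : Subgroup G) P ≤ EE V F
  /-- lines which normalise each other commute -/
  noffL : ∀ g : G, zl (S : Subgroup G) P ≤ normalizer ((MulAut.conj g • zl (S : Subgroup G) P : Subgroup G) : Set G) →
    MulAut.conj g • zl (S : Subgroup G) P ≤ normalizer (zl (S : Subgroup G) P : Set G) →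
      MulAut.conj g • zl (S : Subgroup G) P ≤ centralizer (zl (S : Subgroup G) P : Set G)
  /-- **the principle** -/
  prin : ∀ A ≤ M, IsPGroup 2 A → ¬ A ≤ centralizer (V : Set G) → ∃ m ∈ M, MulAut.conj m • A ≤ (S : Subgroup G) ∧
    ¬ MulAut.conj m • A ≤ centralizer (zl (S : Subgroup G) P : Set G)
  /-- no offender on `V` -/
  noOff : ∀ A ≤ normalizer (V : Set G), ¬ OffM V A

section defs

variable (S : Sylow 2 G) (P V M F : Subgroup G)

/-- `⟨L^(x m) : m ∈ Δ, x ∈ C_G(F)⟩ F` -/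
def BL (Δ : Set G) : Subgroup G :=
  F ⊔ ⨆ m ∈ Δ, ⨆ x ∈ centralizer (F : Set G), MulAut.conj (x * m) • zl (S : Subgroup G) P

/-- the chambers over `W` -/
def DW : Set G := {m | m ∈ M ∧ NOne.Flat.WW V F ≤ MulAut.conj m • (S : Subgroup G)}

/-- `B_F` -/
def BB : Subgroup G := BL S P F (DW S V M F)

/-- `B1_F = C_W(I)`, `I = V ∩ B` -/
def B1 : Subgroup G := NOne.Flat.WW V F ⊓ centralizer ((V ⊓ BB S P V M F : Subgroup G) : Set G)

/-- the chambers over `B1` with good line -/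
def DB : Set G := {m | m ∈ M ∧ B1 S P V M F ≤ MulAut.conj m • (S : Subgroup G) ∧
  MulAut.conj m • zl (S : Subgroup G) P ≤ EE V F}

/-- `B2_F` -/
def BBB : Subgroup G := BL S P F (DB S P V M F)

end defs

end Cfsg.Agent.Omega.NO3S.SFive

end
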